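import Groth.Agent.AdmBlowUp.Extra
import Groth.Agent.InvPow.AmpleFamily
import Groth.Agent.BlowUpLib.Proper
import Groth.Agent.InvPow.DualBasis
import Groth.Agent.S8914

/-!
An ample family after an admissible blow-up.
-/

set_option autoImplicit false
set_option synthInstance.maxHeartbeats 400000
set_option maxHeartbeats 1600000
universe u
open CategoryTheory CategoryTheory.Limits AlgebraicGeometry Opposite TopologicalSpace Topology

namespace Groth.Agent.AdmBlowUp

open InvBasic ProjUniv InvPow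

variable {X : Scheme.{u}}

lemma isAffineOpen_iSup_of_disjoint {ι : Type u} [Finite ι] (O : ι → X.Opens) (hO : ∀ i, IsAffineOpen (O i))
    (hd : ∀ i j, i ≠ j → Disjoint (O i : Set X) (O j : Set X)) : IsAffineOpen (⨆ i, O i) := by
  have : ∀ i, IsAffine (O i : Scheme.{u}) := hO
  have : IsOpenImmersion (Sigma.desc fun i => (O i).ι) := isOpenImmersion_sigmaDesc _ _ (fun i j hij => by
    simpa using hd i j hij)
  have h := isAffineOpen_opensRange (Sigma.desc fun i => (O i).ι)
  convert h using 1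
  refine le_antisymm (iSup_le fun i x hx => ⟨Sigma.ι (fun i => (O i : Scheme.{u})) i ⟨x, hx⟩, ?_⟩) ?_
  · rw [← Scheme.Hom.comp_apply, Sigma.ι_desc]; rfl
  · rintro _ ⟨y, rfl⟩
    obtain ⟨i, z, rfl⟩ := (sigmaOpenCover fun i => (O i : Scheme.{u})).exists_eq y
    refine Opens.mem_iSup.mpr ⟨i, ?_⟩
    show (Sigma.ι (fun i => (O i : Scheme.{u})) i ≫ Sigma.desc fun i => (O i).ι) z ∈ O i
    rw [Sigma.ι_desc]
    exact z.2

lemma exists_dense_affine_nhd (hirr : (irreducibleComponents ↥X).Finite) (x : X) :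
    ∃ U : X.Opens, x ∈ U ∧ IsAffineOpen U ∧ Dense (U : Set X) := by
  obtain ⟨U₀, hU₀, hxU₀, -⟩ := exists_isAffineOpen_mem_and_subset (x := x) (U := ⊤) (Opens.mem_top x)
  let J := {Z : Set X // Z ∈ irreducibleComponents X ∧ ¬ Z ⊆ closure (U₀ : Set X)}
  have : Finite J := Set.Finite.to_subtype (hirr.subset fun Z hZ => hZ.1)
  let R : Set X → Set X := fun Z => closure (U₀ : Set X) ∪ ⋃ W ∈ irreducibleComponents X \ {Z}, W
  have hR : ∀ Z, IsClosed (R Z) := fun Z =>
    isClosed_closure.union ((hirr.subset Set.sdiff_subset).isClosed_biUnion fun W hW => isClosed_of_mem_irreducibleComponents W hW.1)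
  have hne : ∀ Z : J, ∃ z, z ∉ R Z.1 := by
    rintro ⟨Z, hZ, hZU⟩
    by_contra hall
    push Not at hall
    have hZirr : IsIrreducible Z := hZ.1
    rcases (isPreirreducible_iff_isClosed_union_isClosed.mp hZirr.isPreirreducible) _ _ isClosed_closure
      ((hirr.subset Set.sdiff_subset).isClosed_biUnion fun W hW => isClosed_of_mem_irreducibleComponents W hW.1)
      (fun z _ => hall z) with h | h
    · exact hZU h
    · obtain ⟨W, hW, hZW⟩ : ∃ W ∈ (irreducibleComponents X \ {Z}), Z ⊆ W := by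
        have hfin := hirr.subset (Set.sdiff_subset : irreducibleComponents X \ {Z} ⊆ irreducibleComponents X)
        rw [← Set.sUnion_eq_biUnion] at h
        obtain ⟨W, hW, hZW⟩ := isIrreducible_iff_sUnion_isClosed.mp hZirr hfin.toFinset
          (fun W hW => isClosed_of_mem_irreducibleComponents W (hfin.mem_toFinset.mp hW).1) (by simpa using h)
        exact ⟨W, hfin.mem_toFinset.mp hW, hZW⟩
      exact hW.2 (subset_antisymm (hZ.2 hW.1.1 hZW) hZW)
  choose z hz using hne
  choose O hO hzO hOle using fun Z : J => exists_isAffineOpen_mem_and_subset (x := z Z)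
    (U := ⟨(R Z.1)ᶜ, (hR Z.1).isOpen_compl⟩) (hz Z)
  let O' : Option J → X.Opens := fun i => i.elim U₀ O
  have hmem : ∀ (Z : J), ∀ y ∈ O Z, y ∈ Z.1 := by
    intro Z y hy
    obtain ⟨W, hW, hyW⟩ : ∃ W ∈ irreducibleComponents X, y ∈ W :=
      ⟨irreducibleComponent y, irreducibleComponent_mem_irreducibleComponents y, mem_irreducibleComponent⟩
    by_contra hyZ
    exact hOle Z hy (Or.inr (Set.mem_biUnion ⟨hW, fun e => hyZ ((Set.mem_singleton_iff.mp e) ▸ hyW)⟩ hyW))
  refine ⟨⨆ i, O' i, Opens.mem_iSup.mpr ⟨none, hxU₀⟩,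
    isAffineOpen_iSup_of_disjoint O' (fun i => by cases i with | none => exact hU₀ | some Z => exact hO Z) ?_, ?_⟩
  · have h0 : ∀ Z, Disjoint (U₀ : Set X) (O Z : Set X) := fun Z =>
      Set.disjoint_left.mpr fun y hy hy' => hOle Z hy' (Or.inl (subset_closure hy))
    rintro (_ | Z) (_ | Z') hne
    · exact absurd rfl hne
    · exact h0 Z'
    · exact (h0 Z).symm
    · refine Set.disjoint_left.mpr fun y hy hy' => ?_
      refine hOle Z hy (Or.inr (Set.mem_biUnion ⟨Z'.2.1, fun e => hne ?_⟩ (hmem Z' y hy')))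
      exact congrArg some (Subtype.ext (Set.mem_singleton_iff.mp e).symm)
  · intro y
    have hle : ∀ i, closure (O' i : Set X) ⊆ closure ((⨆ i, O' i : X.Opens) : Set X) := fun i =>
      closure_mono fun w hw => Opens.mem_iSup.mpr ⟨i, hw⟩
    let Zy := irreducibleComponent y
    by_cases h : Zy ⊆ closure (U₀ : Set X)
    · exact hle none (h mem_irreducibleComponent)
    · let Z : J := ⟨Zy, irreducibleComponent_mem_irreducibleComponents y, h⟩
      have hd := subset_closure_inter_of_isPreirreducible_of_isOpen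
        (isIrreducible_irreducibleComponent.isPreirreducible) (O Z).isOpen ⟨z Z, hmem Z _ (hzO Z), hzO Z⟩
      exact hle (some Z) (closure_mono Set.inter_subset_right (hd mem_irreducibleComponent))

/-- The dual of an invertible ideal has a section generating exactly off its support. -/
theorem exists_section_dual (J : X.IdealSheafData) (hJ : BlowUp.IsEffCartierIdeal J) :
    ∃ (hL : PicF.IsInvertible (RefHull.dual (ClSub.idealMod J))) (t : Γ(RefHull.dual (ClSub.idealMod J), ⊤)),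
      (genOpen hL t : Set X) = (J.support : Set X)ᶜ := by
  have hM := (Groth.Agent.S8914.result J).mpr hJ
  choose U hxU f hf hU using hJ
  choose m hm using fun x => ConormalSection.exists_idealSect_eq J (U x) (f x) (hU x ▸ Ideal.mem_span_singleton_self (f x))
  have hb := fun x => Groth.Agent.S8914.isBasis (hf x) (hU x) (hm x)
  choose θ hθb hθ using fun x => exists_isBasis_dual (hb x)
  have hdet : ∀ (x : X) (y : (U x).1) (σ : (ClSub.idealMod J).presheaf.stalk y.1) (c : X.presheaf.stalk y.1),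
      σ = c • (ClSub.idealMod J).presheaf.germ (U x).1 y.1 y.2 (m x) →
      (f x • θ x).1 y σ = c • (Coh.structureModule X).presheaf.germ (U x).1 y.1 y.2 (show Γ(Coh.structureModule X, (U x).1) from f x) := by
    rintro x y σ c rfl
    show (X.presheaf.germ (U x).1 y.1 y.2 (f x) • (θ x).1 y) _ = _
    rw [LinearMap.smul_apply, map_smul, hθ x y, smul_comm, ← InvBasic.germ_smul]
    congr 2
    exact mul_one (show Γ(X, (U x).1) from f x)
  obtain ⟨t, ht⟩ := exists_glue_sections (RefHull.dual (ClSub.idealMod J)) (fun x => (U x).1) (fun x => ⟨x, hxU x⟩)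
    (fun x => f x • θ x) (fun a b => by
      refine Subtype.ext (funext fun y => LinearMap.ext fun σ => ?_)
      obtain ⟨c, hc⟩ := ((hb a).stalk_bijective y.2.1).2 σ
      obtain ⟨c', hc'⟩ := ((hb b).stalk_bijective y.2.2).2 σ
      show (f a • θ a).1 ⟨y.1, y.2.1⟩ σ = (f b • θ b).1 ⟨y.1, y.2.2⟩ σ
      rw [hdet a ⟨y.1, y.2.1⟩ σ c hc.symm, hdet b ⟨y.1, y.2.2⟩ σ c' hc'.symm]
      have key : ∀ x (hy : y.1 ∈ (U x).1), RefHull.stalkMapₗ (ClSub.idealModι J) y.1
          ((ClSub.idealMod J).presheaf.germ (U x).1 y.1 hy (m x)) =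
          (Coh.structureModule X).presheaf.germ (U x).1 y.1 hy (show Γ(Coh.structureModule X, (U x).1) from f x) := by
        intro x hy
        rw [RefHull.stalkMapₗ_germ]
        exact congrArg _ (hm x)
      rw [← key a y.2.1, ← key b y.2.2, ← LinearMap.map_smul, ← LinearMap.map_smul]
      exact congrArg _ (hc.trans hc'.symm))
  refine ⟨isInvertible_dual hM, t, Set.ext fun y => ?_⟩
  have h := genOpen_inf_eq_basicOpen (isInvertible_dual hM) (hθb y) (ht y)
  constructor
  · intro hy hs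
    rw [SetLike.mem_coe, Scheme.IdealSheafData.mem_support_iff_of_mem (hxU y), Scheme.mem_zeroLocus_iff] at hs
    exact hs (f y) (hU y ▸ Ideal.mem_span_singleton_self (f y)) (h.le ⟨hy, hxU y⟩)
  · intro hy
    rw [Set.mem_compl_iff, SetLike.mem_coe, Scheme.IdealSheafData.mem_support_iff_of_mem (hxU y),
      Scheme.mem_zeroLocus_iff] at hy
    push Not at hy
    obtain ⟨a, ha, hya⟩ := hy
    obtain ⟨r, rfl⟩ := Ideal.mem_span_singleton'.mp ((hU y) ▸ ha)
    rw [X.basicOpen_mul] at hya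
    exact (h.ge hya.2).1

/-- Charts of a blow-up over an affine open are affine. -/
theorem isAffineOpen_gen {Z : X.IdealSheafData} {Y : Scheme.{u}} {b : Y ⟶ X} (hb : BlowUp.IsBlowUp b Z)
    (i : BlowUpLib.Idx Z) : IsAffineOpen (BlowUpLib.Gen b i) := by
  obtain ⟨e, he⟩ := BlowUpLib.isBlowUp_unique hb (BlowUpLib.isBlowUp_blowUp Z)
  have h := BlowUpLib.gen_preimage (BlowUpLib.blowUpπ_ec Z) e.hom (by rw [he]; exact hb.1) i
  rw [he] at h
  rw [← h, ← i.opensRange_ι]
  exact (isAffineOpen_opensRange i.ι).preimage_of_isIso e.hom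

/-- A section over an open whose coefficient cuts out a generating locus. -/
theorem exists_chart_section {Z : X.IdealSheafData} {Y : Scheme.{u}} (b : Y ⟶ X)
    (hb : BlowUp.IsEffCartierIdeal (Z.comap b)) (i : BlowUpLib.Idx Z) :
    ∃ v : Γ(ClSub.idealMod (Z.comap b), b ⁻¹ᵁ i.V.1), ∀ y ∈ b ⁻¹ᵁ i.V.1,
      ∃ (A : Y.Opens) (hA : A ≤ b ⁻¹ᵁ i.V.1) (α : Γ(ClSub.idealMod (Z.comap b), A)) (c : Γ(Y, A)),
        y ∈ A ∧ IsBasis (ClSub.idealMod (Z.comap b)) α ∧ res (ClSub.idealMod (Z.comap b)) hA v = c • α ∧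
          (y ∈ Y.basicOpen c ↔ y ∈ BlowUpLib.Gen b i) := by
  let s : Γ(Y, b ⁻¹ᵁ i.V.1) := b.app i.V.1 i.a
  let M := ClSub.idealMod (Z.comap b)
  have hsA : ∀ (A : Y.affineOpens) (hA : A.1 ≤ b ⁻¹ᵁ i.V.1),
      Y.presheaf.map (homOfLE hA).op s ∈ (Z.comap b).ideal A := by
    intro A hA
    rw [IdealComap.ideal_comap Z b A i.V hA]
    exact Ideal.mem_map_of_mem (b.appLE i.V.1 A.1 hA).hom i.mem
  choose V hyV d hd hD using hb
  choose A hA hyA hAle using fun y : (b ⁻¹ᵁ i.V.1 : Y.Opens) => exists_isAffineOpen_mem_and_subset (x := y.1)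
    (U := (b ⁻¹ᵁ i.V.1) ⊓ (V y.1).1) ⟨y.2, hyV y.1⟩
  have hA1 : ∀ y, A y ≤ b ⁻¹ᵁ i.V.1 := fun y p hp => (hAle y hp).1
  have hA2 : ∀ y, A y ≤ (V y.1).1 := fun y p hp => (hAle y hp).2
  choose σ hσ using fun y => ConormalSection.exists_idealSect_eq (Z.comap b) ⟨A y, hA y⟩ _ (hsA ⟨A y, hA y⟩ (hA1 y))
  obtain ⟨v, hv, -⟩ := TopCat.Sheaf.existsUnique_gluing' ⟨M.presheaf, M.isSheaf⟩ A (b ⁻¹ᵁ i.V.1)
    (fun y => homOfLE (hA1 y)) (fun p hp => Opens.mem_iSup.mpr ⟨⟨p, hp⟩, hyA ⟨p, hp⟩⟩) σ (fun y y' => by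
      refine ConormalSection.idealSect_injective (Z.comap b) _ ?_
      show OmegaSh.idealSect _ _ (M.presheaf.map (homOfLE inf_le_left).op (σ y)) =
        OmegaSh.idealSect _ _ (M.presheaf.map (homOfLE inf_le_right).op (σ y'))
      rw [← idealSect_res, ← idealSect_res, hσ, hσ]
      exact (QCohLib.ring_map_map _ _ _).trans (QCohLib.ring_map_map _ _ _).symm)
  refine ⟨v, fun y hy => ?_⟩
  let y' : (b ⁻¹ᵁ i.V.1 : Y.Opens) := ⟨y, hy⟩
  let m' := ConormalSection.exists_idealSect_eq (Z.comap b) (V y) (d y) (hD y ▸ Ideal.mem_span_singleton_self (d y))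
  have hβ := Groth.Agent.S8914.isBasis (hd y) (hD y) m'.choose_spec
  have hb' := isBasis_res hβ (hA2 y')
  obtain ⟨c, hc⟩ := exists_coef hb' (res M (hA1 y') v)
  refine ⟨A y', hA1 y', _, c, hyA y', hb', hc, ?_⟩
  let d' : Γ(Y, A y') := Y.presheaf.map (homOfLE (hA2 y')).op (d y)
  let a' : Γ(Y, A y') := Y.presheaf.map (homOfLE (hA1 y')).op s
  have hac : a' = c * d' := by
    have h1 := congrArg (OmegaSh.idealSect (Z.comap b) (A y')) hc
    rw [ConormalSection.idealSect_smul] at h1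
    refine Eq.trans ?_ (h1.trans ?_)
    · exact (hσ y').symm.trans (congrArg _ (hv y').symm)
    · congr 1
      exact (idealSect_res _ _ _).symm.trans (congrArg _ m'.choose_spec)
  have hid : (Z.comap b).ideal ⟨A y', hA y'⟩ = Ideal.span {d'} := by
    rw [← (Z.comap b).map_ideal (U := ⟨A y', hA y'⟩) (V := V y) (hA2 y'), hD y, Ideal.map_span, Set.image_singleton]
    rfl
  constructor
  · intro hyc
    refine BlowUpLib.mem_gen.mpr ⟨⟨Y.basicOpen c, (hA y').basicOpen c⟩, ⟨(Y.basicOpen_le c).trans (hA1 y'), ?_⟩, hyc⟩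
    rw [← (Z.comap b).map_ideal (U := ⟨Y.basicOpen c, (hA y').basicOpen c⟩) (V := ⟨A y', hA y'⟩) (Y.basicOpen_le c),
      hid, Ideal.map_span, Set.image_singleton]
    have e : (b.appLE i.V.1 (Y.basicOpen c) ((Y.basicOpen_le c).trans (hA1 y'))).hom i.a =
        Y.presheaf.map (homOfLE (Y.basicOpen_le c)).op a' :=
      (QCohLib.ring_map_map (Y.basicOpen_le c) (hA1 y') s).symm
    show Ideal.span {_} = Ideal.span {(b.appLE i.V.1 (Y.basicOpen c) _).hom i.a}
    rw [e, hac, map_mul, Ideal.span_singleton_mul_left_unit]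
    · rfl
    · exact Y.toRingedSpace.isUnit_res_basicOpen c
  · intro hyG
    obtain ⟨T, hT, hyT, hTA⟩ := BlowUpLib.exists_genSet hyG (hyA y')
    obtain ⟨hTV, hT⟩ := hT
    have hT' : (Z.comap b).ideal T = Ideal.span {Y.presheaf.map (homOfLE hTA).op d'} := by
      rw [← (Z.comap b).map_ideal (U := T) (V := ⟨A y', hA y'⟩) hTA, hid, Ideal.map_span, Set.image_singleton]
      rfl
    have e : (b.appLE i.V.1 T.1 hTV).hom i.a = Y.presheaf.map (homOfLE hTA).op a' :=
      (QCohLib.ring_map_map hTA (hA1 y') s).symm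
    rw [e, hT', hac, map_mul] at hT
    obtain ⟨r, hr⟩ := Ideal.mem_span_singleton.mp (hT.le (Ideal.mem_span_singleton_self _))
    have hdn : Y.presheaf.map (homOfLE hTA).op d' ∈ nonZeroDivisors Γ(Y, T.1) := by
      refine mem_nonZeroDivisors_iff_right.mpr fun z hz => ?_
      have h3 := (isBasis_res hb' hTA) T.1 le_rfl
      refine h3.1 (a₁ := z) (a₂ := 0) ?_
      refine ConormalSection.idealSect_injective (Z.comap b) _ ?_
      simp only [ConormalSection.idealSect_smul, zero_mul]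
      rw [← idealSect_res, ← idealSect_res, ← idealSect_res, m'.choose_spec, QCohLib.ring_map_map]
      exact hz
    have hu : Y.presheaf.map (homOfLE hTA).op c * r = 1 := by
      refine sub_eq_zero.mp ((mem_nonZeroDivisors_iff_right.mp hdn) _ ?_)
      rw [sub_mul, one_mul, sub_eq_zero]
      refine Eq.trans ?_ hr.symm
      ring
    have hyc : y ∈ Y.basicOpen (Y.presheaf.map (homOfLE hTA).op c) := by
      rw [Scheme.basicOpen_of_isUnit _ (IsUnit.of_mul_eq_one r hu)]
      exact hyT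
    rw [Scheme.basicOpen_res] at hyc
    exact hyc.2

theorem exists_admissible_ampleFamily [CompactSpace X] [QuasiSeparatedSpace X]
    (hirr : (irreducibleComponents ↥X).Finite) :
    ∃ (U : X.Opens) (𝓘 : X.IdealSheafData) (X' : Scheme.{u}) (b : X' ⟶ X),
      IsCompact (U : Set ↥X) ∧ Dense (U : Set ↥X) ∧ BlowUp.IsAdmissibleFor U 𝓘 ∧ BlowUp.IsBlowUp b 𝓘 ∧
      MoreMor.HasAmpleFamily X' := by
  classical
  choose W hxW hW hWd using exists_dense_affine_nhd hirr
  obtain ⟨s, hs⟩ := isCompact_univ.elim_finite_subcover (fun x => (W x : Set X)) (fun x => (W x).2)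
    (fun x _ => Set.mem_iUnion.mpr ⟨x, hxW x⟩)
  choose I hI hsI using fun x => exists_ft_ideal (W x) (hW x).isCompact
  obtain ⟨X', b, hb⟩ := BlowUpLib.exists_isBlowUp (∏ x ∈ s, I x)
  have hft : BlowUp.IsFiniteTypeIdeal (∏ x ∈ s, I x) := BlowUpLib.finiteType_prod _ fun x _ => hI x
  let U : X.Opens := s.inf W
  have hUc : IsCompact (U : Set X) ∧ Dense (U : Set X) := by
    show IsCompact ((s.inf W : X.Opens) : Set X) ∧ Dense ((s.inf W : X.Opens) : Set X)
    clear hs hb hft
    induction s using Finset.induction_on with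
    | empty => simp only [Finset.inf_empty, Opens.coe_top]; exact ⟨isCompact_univ, dense_univ⟩
    | insert a t ha ih =>
      rw [Finset.inf_insert, Opens.coe_inf]
      exact ⟨(hW a).isCompact.inter_of_isOpen ih.1 (W a).2 (t.inf W).2,
        (hWd a).inter_of_isOpen_left ih.2 (W a).2⟩
  refine ⟨U, _, X', b, hUc.1, hUc.2, ⟨hft, Set.disjoint_left.mpr fun x hx hxU => ?_⟩, hb, ?_⟩
  · obtain ⟨y, hy, hxy⟩ := BlowUpLib.support_prod s I hx
    exact (hsI y).le hxy ((Finset.inf_le (f := W) hy) hxU)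
  have : IsProper b := BlowUpLib.isProper_of_isBlowUp hb hft
  have : CompactSpace X' := QuasiCompact.compactSpace_of_compactSpace b
  have : QuasiSeparatedSpace X' := quasiSeparatedSpace_of_quasiSeparated b
  refine ⟨inferInstance, fun y => ?_⟩
  obtain ⟨x, hxs, hyx⟩ := Set.mem_iUnion₂.mp (hs (Set.mem_univ (b y)))
  have hJ : BlowUp.IsEffCartierIdeal ((I x).comap b) := by
    have h1 := hb.1
    rw [← Finset.mul_prod_erase s I hxs, BlowUpLib.comap_mul] at h1
    exact BlowUpLib.ec_of_mul h1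
  obtain ⟨hL, t, ht⟩ := exists_section_dual _ hJ
  generalize RefHull.dual (ClSub.idealMod ((I x).comap b)) = L at hL t ht
  let D := b ⁻¹ᵁ W x
  have hD : genOpen hL t = D := by
    refine Opens.ext ?_
    rw [ht, Scheme.IdealSheafData.support_comap]
    show (b.base ⁻¹' ((I x).support : Set X))ᶜ = b.base ⁻¹' (W x : Set X)
    rw [hsI x, Set.preimage_compl, compl_compl]
  obtain ⟨i, hiV, hyi⟩ := BlowUpLib.exists_gen hb.1 ⟨W x, hW x⟩ (w := y) hyx
  have haff := isAffineOpen_gen hb i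
  obtain ⟨v, hv⟩ := exists_chart_section b hb.1 i
  have hle : BlowUpLib.Gen b i ≤ b ⁻¹ᵁ i.V.1 := BlowUpLib.gen_le b i
  have hiV' : i.V.1 = W x := congrArg Subtype.val hiV
  rw [show b ⁻¹ᵁ i.V.1 = D from congrArg (b ⁻¹ᵁ ·) hiV'] at hle
  have hDi : D ≤ b ⁻¹ᵁ i.V.1 := (congrArg (b ⁻¹ᵁ ·) hiV').ge
  let M := ClSub.idealMod ((∏ x ∈ s, I x).comap b)
  have hM : PicF.IsInvertible M := (Groth.Agent.S8914.result _).mpr hb.1
  have := isQuasicoherent_of_isInvertible hM
  have hbD : IsBasis L (gres L t D) := hD ▸ isBasis_genOpen hL t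
  obtain ⟨i1⟩ := nonempty_pow_one_iso hL
  have ht1 : genOpen (isInvertible_tensorPow hL 1) (i1.inv.app ⊤ t) = D :=
    (gen_iff_of_iso hL (isInvertible_tensorPow hL 1) i1.symm t).trans hD
  obtain ⟨E, hE⟩ := exists_extend_twist M hL one_pos (i1.inv.app ⊤ t) D ht1 hbD (res M hDi v)
  obtain ⟨w, a, hau, hw⟩ := hE E le_rfl
  have h1 := isInvertible_tensorMod hM (isInvertible_tensorPow hL E)
  have h12 := isInvertible_tensorMod h1 hL
  obtain ⟨j⟩ := nonempty_pow_one_iso h12
  refine ⟨_, 1, ProjTwist.globalHom _ (j.inv.app ⊤ (SecTwist.tmul _ _ ⊤ w t)), h12, le_rfl, ?_⟩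
  rw [genLocus_globalHom (isInvertible_tensorPow h12 1)]
  have e0 : genOpen (isInvertible_tensorPow h12 1) (j.inv.app ⊤ (SecTwist.tmul _ _ ⊤ w t)) =
      genOpen h1 w ⊓ D :=
    ((gen_iff_of_iso h12 (isInvertible_tensorPow h12 1) j.symm _).trans (genOpen_tmul h1 hL w t)).trans (by rw [hD])
  rw [e0]
  suffices e : genOpen h1 w ⊓ D = BlowUpLib.Gen b i by
    rw [e]
    exact ⟨hyi, haff⟩
  refine Opens.ext (Set.ext fun z => ?_)
  by_cases hz : z ∈ D
  · obtain ⟨A, hA, α, c, hzA, hα, hc, hiff⟩ := hv z (hDi hz)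
    have hA' : A ⊓ D ≤ D := inf_le_right
    have e := congrArg (res _ hA') hw
    rw [res_gres, res_tw, res_smul, res_res,
      show res M (hA'.trans hDi) v = res M (inf_le_left : A ⊓ D ≤ A) (res M hA v) from (res_res M _ _ _).symm,
      hc, res_smul, smul_smul, smul_tw] at e
    have h3 := genOpen_inf_eq_basicOpen h1
      (isBasis_tmul (isBasis_res hα (inf_le_left : A ⊓ D ≤ A)) (isBasis_pw (isBasis_res hbD hA') E)) e
    rw [Scheme.basicOpen_mul, Scheme.basicOpen_of_isUnit _ (hau.map (X'.presheaf.map (homOfLE hA').op).hom)] at h3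
    show _ ↔ z ∈ BlowUpLib.Gen b i
    rw [← hiff]
    constructor
    · intro hh
      have := (h3.le ⟨hh.1, hzA, hz⟩).2
      rw [show resR (inf_le_left : A ⊓ D ≤ A) c = X'.presheaf.map (homOfLE (inf_le_left : A ⊓ D ≤ A)).op c from rfl,
        Scheme.basicOpen_res] at this
      exact this.2
    · intro hzc
      refine ⟨(h3.ge ⟨⟨hzA, hz⟩, ?_⟩).1, hz⟩
      rw [show resR (inf_le_left : A ⊓ D ≤ A) c = X'.presheaf.map (homOfLE (inf_le_left : A ⊓ D ≤ A)).op c from rfl,
        Scheme.basicOpen_res]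
      exact ⟨⟨hzA, hz⟩, hzc⟩
  · exact ⟨fun hh => absurd hh.2 hz, fun hh => absurd (hle hh) hz⟩

end Groth.Agent.AdmBlowUp
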