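import Groth.Agent.AdmBlowUp.Separate
import Groth.Agent.IdealComap.Basic

/-!
Separation of closures after a blow-up.
-/

set_option autoImplicit false
universe u
open CategoryTheory Limits AlgebraicGeometry TopologicalSpace Topology

namespace Groth.Agent.AdmBlowUp

variable {X Z X' : Scheme.{u}}

/-- The residual ideal of `I` in an invertible ideal vanishes on the closure of a locus where `I` vanishes. -/
lemma notMem_closure' {S : Set X'} (I : X'.IdealSheafData) (D : X'.IdealSheafData) (V : X'.affineOpens) {y : X'}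
    (d : Γ(X', V.1)) (hD : D.ideal V = Ideal.span {d}) (hSI : S ⊆ I.support) (hSD : Disjoint S D.support)
    (hy : y ∈ closure S) {r : Γ(X', V.1)} (hr : d * r ∈ I.ideal V) : y ∉ X'.basicOpen r := fun h =>
  notMem_closure V d r hr h hD hSI hSD hy

theorem disjoint_closures (p : Z ⟶ X) (q : X' ⟶ X) (A I : X.IdealSheafData) (K : Z.IdealSheafData)
    (hA : BlowUp.IsEffCartierIdeal (A.comap q)) (hIA : I ≤ A) (hincl : A.comap p ≤ I.comap p ⊔ K)
    {S : Set X'} (hSI : ∀ s ∈ S, q s ∈ I.support) (hSA : ∀ s ∈ S, q s ∉ A.support)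
    {T : Set ↥(pullback p q)} (hTK : ∀ t ∈ T, pullback.fst p q t ∈ K.support)
    (hTA : ∀ t ∈ T, p (pullback.fst p q t) ∉ A.support)
    {z : ↥(pullback p q)} (hz : pullback.snd p q z ∈ closure S) : z ∉ closure T := by
  intro hzT
  obtain ⟨V, hyV, d, -, hD⟩ := hA (pullback.snd p q z)
  obtain ⟨_, ⟨O, hO, rfl⟩, hzO, hOV⟩ := (pullback p q).isBasis_affineOpens.exists_subset_of_mem_open
    (show z ∈ (pullback.snd p q) ⁻¹ᵁ V.1 from hyV) ((pullback.snd p q) ⁻¹ᵁ V.1).isOpen
  let f := pullback.snd p q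
  let φ := (f.appLE V.1 O hOV).hom
  have hI' : ∀ a ∈ (I.comap q).ideal V, ∃ r, a = d * r ∧ f z ∉ X'.basicOpen r := by
    intro a ha
    have hmem : a ∈ (A.comap q).ideal V := Scheme.IdealSheafData.comap_mono q hIA V ha
    obtain ⟨r, hr⟩ := Ideal.mem_span_singleton.mp (hD ▸ hmem)
    refine ⟨r, hr, notMem_closure' (I.comap q) (A.comap q) V d hD (fun s hs => ?_)
      (Set.disjoint_left.mpr fun s hs hs' => ?_) hz (hr ▸ ha)⟩
    · rw [Scheme.IdealSheafData.support_comap]; exact hSI s hs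
    · rw [Scheme.IdealSheafData.support_comap] at hs'; exact hSA s hs hs'
  have hle : (A.comap q).comap f ≤ (I.comap q).comap f ⊔ K.comap (pullback.fst p q) := by
    rw [← Scheme.IdealSheafData.comap_comp, ← Scheme.IdealSheafData.comap_comp, ← pullback.condition,
      Scheme.IdealSheafData.comap_comp, Scheme.IdealSheafData.comap_comp, ← Scheme.IdealSheafData.comap_sup]
    exact Scheme.IdealSheafData.comap_mono _ hincl
  have hdmem : φ d ∈ ((A.comap q).comap f).ideal ⟨O, hO⟩ := by
    rw [IdealComap.ideal_comap (A.comap q) f ⟨O, hO⟩ V hOV]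
    exact Ideal.mem_map_of_mem _ (hD ▸ Ideal.mem_span_singleton_self d)
  have hsum := hle ⟨O, hO⟩ hdmem
  rw [Scheme.IdealSheafData.ideal_sup, Pi.sup_apply, IdealComap.ideal_comap (I.comap q) f ⟨O, hO⟩ V hOV] at hsum
  obtain ⟨e, he, k, hk, hek⟩ := Submodule.mem_sup.mp hsum
  have key : ∀ e ∈ Ideal.map φ ((I.comap q).ideal V), ∃ t, e = φ d * t ∧ z ∉ (pullback p q).basicOpen t := by
    intro e he
    induction he using Submodule.span_induction with
    | mem x hx =>
      obtain ⟨a, ha, rfl⟩ := hx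
      obtain ⟨r, hr, hzr⟩ := hI' a ha
      refine ⟨φ r, by rw [hr, map_mul], fun hz' => hzr ?_⟩
      rw [Scheme.basicOpen_appLE] at hz'
      exact hz'.2
    | zero => exact ⟨0, by rw [mul_zero], by rw [Scheme.basicOpen_zero]; exact fun h => h⟩
    | add x y _ _ hx hy =>
      obtain ⟨t, ht, hzt⟩ := hx
      obtain ⟨t', ht', hzt'⟩ := hy
      exact ⟨t + t', by rw [ht, ht', mul_add], fun h =>
        ((pullback p q).basicOpen_add_le t t' h).elim hzt hzt'⟩
    | smul c x _ hx =>
      obtain ⟨t, ht, hzt⟩ := hx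
      refine ⟨c * t, by rw [smul_eq_mul, ht, mul_left_comm], fun h => hzt ?_⟩
      rw [Scheme.basicOpen_mul] at h
      exact h.2
  obtain ⟨t, ht, hzt⟩ := key e he
  have hz1 : z ∈ (pullback p q).basicOpen (1 - t) := by
    have h1 : z ∈ (pullback p q).basicOpen (t + (1 - t)) := by
      rw [add_sub_cancel, Scheme.basicOpen_of_isUnit _ isUnit_one]; exact hzO
    exact ((pullback p q).basicOpen_add_le _ _ h1).resolve_left hzt
  obtain ⟨w, hw, hwT⟩ := mem_closure_iff.mp hzT _ ((pullback p q).basicOpen (1 - t)).isOpen hz1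
  have hwO : w ∈ O := (pullback p q).basicOpen_le _ hw
  have hkeq : k = φ d * (1 - t) := by rw [mul_sub, mul_one, ← ht, ← hek, add_sub_cancel_left]
  have hwK : w ∈ (K.comap (pullback.fst p q)).support := by
    rw [Scheme.IdealSheafData.support_comap]; exact hTK w hwT
  rw [Scheme.IdealSheafData.mem_support_iff_of_mem (U := ⟨O, hO⟩) hwO, Scheme.mem_zeroLocus_iff] at hwK
  refine hwK k hk ?_
  rw [hkeq, Scheme.basicOpen_mul, Scheme.basicOpen_appLE]
  refine ⟨⟨hwO, ?_⟩, hw⟩
  by_contra hd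
  have hmem : f w ∈ (A.comap q).support := by
    rw [Scheme.IdealSheafData.mem_support_iff_of_mem (show f w ∈ V.1 from hOV hwO), Scheme.mem_zeroLocus_iff, hD]
    intro a ha hwa
    obtain ⟨r, rfl⟩ := Ideal.mem_span_singleton'.mp ha
    rw [X'.basicOpen_mul] at hwa
    exact hd hwa.2
  rw [Scheme.IdealSheafData.support_comap] at hmem
  have hc : p (pullback.fst p q w) = q (f w) := by
    rw [← Scheme.Hom.comp_apply, pullback.condition, Scheme.Hom.comp_apply]
  exact hTA w hwT (hc ▸ hmem)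

end Groth.Agent.AdmBlowUp
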