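import Groth.Agent.AdmBlowUp.Core
import Groth.Agent.BlowUpLib.Props2

/-!
Complements on admissible blow-ups.
-/

set_option autoImplicit false
universe u
open CategoryTheory Limits AlgebraicGeometry TopologicalSpace Topology

namespace Groth.Agent.AdmBlowUp

lemma quasiCompact_ι {X : Scheme.{u}} [QuasiSeparatedSpace X] (W : X.Opens) (hW : IsCompact (W : Set X)) :
    QuasiCompact W.ι := by
  refine ⟨fun U hU hU' => ?_⟩
  have h : IsCompact ((W : Set X) ∩ U) := hW.inter_of_isOpen hU' W.2 hU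
  rw [W.ι.isOpenEmbedding.isInducing.isCompact_iff, Set.image_preimage_eq_inter_range, Scheme.Opens.range_ι,
    Set.inter_comm]
  exact h

lemma range_map {X₁ X₂ X₁' : Scheme.{u}} (q : X₂ ⟶ X₁) (c : X₁' ⟶ X₁) (W : X₂.Opens) :
    Set.range (pullback.map (W.ι ≫ q) c q c W.ι (𝟙 _) (𝟙 _) (Category.comp_id _) (by simp)) =
      (fun z => pullback.fst q c z) ⁻¹' (W : Set X₂) := by
  rw [Scheme.Pullback.range_map]
  simp

lemma isOpenImmersion_map {X₁ X₂ X₁' : Scheme.{u}} (q : X₂ ⟶ X₁) (c : X₁' ⟶ X₁) (W : X₂.Opens) :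
    IsOpenImmersion (pullback.map (W.ι ≫ q) c q c W.ι (𝟙 _) (𝟙 _) (Category.comp_id _) (by simp)) :=
  inferInstance

variable {X Y : Scheme.{u}}

/-- The residual ideals of a finite family generating an invertible ideal. -/
lemma exists_notMem_closure {ι : Type*} (s : Finset ι) (I : ι → X.IdealSheafData) (b : Y ⟶ X)
    (h : BlowUp.IsEffCartierIdeal ((s.sup I).comap b)) (S : ι → Set Y)
    (hSI : ∀ i ∈ s, ∀ p ∈ S i, b p ∈ (I i).support) (hS : ∀ i ∈ s, ∀ p ∈ S i, b p ∉ (s.sup I).support)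
    (y : Y) : ∃ i ∈ s, y ∉ closure (S i) := by
  classical
  by_contra hne
  push Not at hne
  obtain ⟨V, hyV, d, hd0, hD⟩ := h y
  have key : ∀ t : Finset ι, t ⊆ s → ∀ a ∈ ((t.sup I).comap b).ideal V, ∃ r, a = d * r ∧ y ∉ Y.basicOpen r := by
    intro t
    induction t using Finset.induction_on with
    | empty =>
      intro _ a ha
      rw [Finset.sup_empty, Scheme.IdealSheafData.comap_bot] at ha
      refine ⟨0, ?_, by rw [Scheme.basicOpen_zero]; exact fun h => h⟩
      rw [mul_zero]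
      exact Submodule.mem_bot _ |>.mp ha
    | insert i t hi ih =>
      intro hts a ha
      rw [Finset.sup_insert, Scheme.IdealSheafData.comap_sup, Scheme.IdealSheafData.ideal_sup, Pi.sup_apply] at ha
      obtain ⟨a₁, ha₁, a₂, ha₂, rfl⟩ := Submodule.mem_sup.mp ha
      have his : i ∈ s := hts (Finset.mem_insert_self i t)
      obtain ⟨r₂, hr₂, hy₂⟩ := ih (fun j hj => hts (Finset.mem_insert_of_mem hj)) a₂ ha₂
      have hle : (I i).comap b ≤ (s.sup I).comap b := Scheme.IdealSheafData.comap_mono _ (Finset.le_sup his)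
      obtain ⟨r₁, hr₁⟩ := Ideal.mem_span_singleton.mp (hD ▸ hle V ha₁)
      have hy₁ : y ∉ Y.basicOpen r₁ := notMem_closure' ((I i).comap b) ((s.sup I).comap b) V d hD
        (fun p hp => by rw [Scheme.IdealSheafData.support_comap]; exact hSI i his p hp)
        (Set.disjoint_left.mpr fun p hp hp' => by
          rw [Scheme.IdealSheafData.support_comap] at hp'; exact hS i his p hp hp')
        (hne i his) (hr₁ ▸ ha₁)
      exact ⟨r₁ + r₂, by rw [mul_add, ← hr₁, hr₂], fun h => (Y.basicOpen_add_le r₁ r₂ h).elim hy₁ hy₂⟩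
  obtain ⟨r, hr, hyr⟩ := key s (Finset.Subset.refl s) d (hD ▸ Ideal.mem_span_singleton_self d)
  have : r = 1 := by
    refine sub_eq_zero.mp ((mem_nonZeroDivisors_iff_right.mp hd0) _ ?_)
    rw [sub_mul, one_mul, mul_comm, ← hr, sub_self]
  refine hyr ?_
  rw [this, Scheme.basicOpen_of_isUnit _ isUnit_one]
  exact hyV

lemma isFiniteTypeIdeal_of_effCartier {I : X.IdealSheafData} (h : BlowUp.IsEffCartierIdeal I) :
    BlowUp.IsFiniteTypeIdeal I :=
  BlowUpLib.fg_of_local fun x => by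
    obtain ⟨U, hxU, f, -, hf⟩ := h x
    exact ⟨U, hxU, {f}, by rw [Finset.coe_singleton]; exact hf.symm⟩

lemma isCompact_compl_support [CompactSpace X] [QuasiSeparatedSpace X] {I : X.IdealSheafData}
    (h : BlowUp.IsFiniteTypeIdeal I) : IsCompact (I.support : Set X)ᶜ := by
  obtain ⟨κ, hκ, W, hW, -, hsup⟩ :=
    Groth.Agent.QCohLib.exists_finite_affine_cover (X := X) (U := ⊤) CompactSpace.isCompact_univ
  have hcover : (I.support : Set X)ᶜ = ⋃ i, (I.support : Set X)ᶜ ∩ (W i : Set X) := by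
    ext x
    refine ⟨fun hx => ?_, fun hx => (Set.mem_iUnion.mp hx).choose_spec.1⟩
    obtain ⟨i, hi⟩ := Opens.mem_iSup.mp (hsup (Opens.mem_top x))
    exact Set.mem_iUnion.mpr ⟨i, hx, hi⟩
  rw [hcover]
  refine isCompact_iUnion fun i => ?_
  obtain ⟨s, hspan⟩ := h ⟨W i, hW i⟩
  have : (I.support : Set X)ᶜ ∩ (W i : Set X) = ⋃ f ∈ (s : Set Γ(X, W i)), (X.basicOpen f : Set X) := by
    ext x
    constructor
    · rintro ⟨hx, hxW⟩
      by_contra hne
      refine hx ?_
      rw [SetLike.mem_coe, Scheme.IdealSheafData.mem_support_iff_of_mem (U := ⟨W i, hW i⟩) hxW, ← hspan,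
        Scheme.zeroLocus_span, Scheme.mem_zeroLocus_iff]
      exact fun f hf hxf => hne (Set.mem_biUnion hf hxf)
    · intro hx
      obtain ⟨f, hf, hxf⟩ := Set.mem_iUnion₂.mp hx
      refine ⟨fun hx' => ?_, X.basicOpen_le f hxf⟩
      rw [SetLike.mem_coe, Scheme.IdealSheafData.mem_support_iff_of_mem (U := ⟨W i, hW i⟩) (X.basicOpen_le f hxf),
        ← hspan, Scheme.zeroLocus_span, Scheme.mem_zeroLocus_iff] at hx'
      exact hx' f hf hxf
  rw [this]
  exact s.finite_toSet.isCompact_biUnion fun f _ => ((hW i).basicOpen f).isCompact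

end Groth.Agent.AdmBlowUp
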