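import Groth.Agent.SubSheafExt.Generators
import Groth.Agent.ConormalSection.Ideal
import Groth.Agent.BlowUpLib.Props2
import Groth.Prelude.Def_BlowUp2

/-!
Finite type ideal sheaves with prescribed support.
-/

set_option autoImplicit false
set_option linter.style.haveILetI false
universe u
open CategoryTheory Limits AlgebraicGeometry TopologicalSpace Opposite

namespace Groth.Agent.AdmBlowUp

open Groth.Agent.SubSheafExt

variable {X : Scheme.{u}}

/-- The ideal of sections of `K` with germs in `M`. -/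
noncomputable def subIdealOn (K : X.IdealSheafData) (M : Sub (ClSub.idealMod K)) (V : X.Opens) : Ideal Γ(X, V) where
  carrier := {a | ∃ σ ∈ sectSub (ClSub.idealMod K) M V, OmegaSh.idealSect K V σ = a}
  add_mem' := by
    rintro a b ⟨σ, hσ, rfl⟩ ⟨τ, hτ, rfl⟩
    exact ⟨σ + τ, add_mem hσ hτ, map_add _ _ _⟩
  zero_mem' := ⟨0, zero_mem _, map_zero _⟩
  smul_mem' := by
    rintro r a ⟨σ, hσ, rfl⟩
    exact ⟨r • σ, Submodule.smul_mem _ r hσ, ConormalSection.idealSect_smul K V r σ⟩

lemma idealSect_res (K : X.IdealSheafData) {W W' : X.Opens} (h : W' ≤ W) (σ : Γ(ClSub.idealMod K, W)) :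
    X.presheaf.map (homOfLE h).op (OmegaSh.idealSect K W σ) =
      OmegaSh.idealSect K W' ((ClSub.idealMod K).presheaf.map (homOfLE h).op σ) :=
  (Groth.Agent.QCohLib.app_map (ClSub.idealModι K) h σ).symm

lemma res_mem_sectSub {F : X.Modules} (M : Sub F) {W W' : X.Opens} (h : W' ≤ W) {σ : Γ(F, W)}
    (hσ : σ ∈ sectSub F M W) : F.presheaf.map (homOfLE h).op σ ∈ sectSub F M W' := fun y hy => by
  rw [TopCat.Presheaf.germ_res_apply]
  exact hσ y (h hy)

lemma subIdealOn_map (K : X.IdealSheafData) {M : Sub (ClSub.idealMod K)} (hM : GenOn M ⊤)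
    (V : X.affineOpens) (f : Γ(X, V.1)) :
    (subIdealOn K M V.1).map (X.presheaf.map (homOfLE (X.basicOpen_le f)).op).hom =
      subIdealOn K M (X.basicOpen f) := by
  haveI := ConormalSection.isQuasicoherent_idealMod K
  refine le_antisymm (Ideal.map_le_iff_le_comap.mpr ?_) ?_
  · rintro a ⟨σ, hσ, rfl⟩
    exact ⟨_, res_mem_sectSub M _ hσ, (idealSect_res K _ σ).symm⟩
  · rintro a ⟨s, hs, rfl⟩
    obtain ⟨n, φ, hφ⟩ := Groth.Agent.QCohLib.exists_res_eq_pow_smul (M := ClSub.idealMod K) V.2 f _
      (X.basicOpen_le f) rfl s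
    have hMV : GenOn M V.1 := by
      intro x hx
      obtain ⟨W, hxW, hW, -, T, hT⟩ := hM x (Opens.mem_top x)
      obtain ⟨g, hgV, hxg⟩ := hW.exists_basicOpen_le ⟨x, hx⟩ hxW
      classical
      refine ⟨X.basicOpen g, hxg, hW.basicOpen g, hgV,
        T.image ((ClSub.idealMod K).presheaf.map (homOfLE (X.basicOpen_le g)).op), fun y hy => ?_⟩
      rw [Finset.coe_image, germSpan_res, hT y (X.basicOpen_le g hy)]
    obtain ⟨k, hk⟩ := exists_pow_germ_mem (F := ClSub.idealMod K) le_rfl V.2.isCompact hMV f φ (fun y _ hg => by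
      have := congrArg ((ClSub.idealMod K).presheaf.germ (X.basicOpen f) y hg) hφ
      rw [germ_smul, TopCat.Presheaf.germ_res_apply] at this
      rw [this]
      exact Submodule.smul_mem _ _ (hs y hg))
    have hmem : OmegaSh.idealSect K V.1 (f ^ k • φ) ∈ subIdealOn K M V.1 :=
      ⟨_, fun y hy => hk k le_rfl y hy, rfl⟩
    have := Ideal.mem_map_of_mem (X.presheaf.map (homOfLE (X.basicOpen_le f)).op).hom hmem
    rw [idealSect_res, Scheme.Modules.map_smul, ConormalSection.idealSect_smul, hφ,
      ConormalSection.idealSect_smul, map_pow] at this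
    have hu : IsUnit (X.presheaf.map (homOfLE (X.basicOpen_le f)).op f) :=
      X.toRingedSpace.isUnit_res_basicOpen f
    refine ((Ideal.unit_mul_mem_iff_mem _ (hu.pow (k + n))).mp ?_)
    rw [pow_add, mul_assoc]
    exact this

/-- The ideal sheaf of a locally finitely generated family of stalkwise submodules of `K`. -/
noncomputable def subIdeal (K : X.IdealSheafData) {M : Sub (ClSub.idealMod K)} (hM : GenOn M ⊤) :
    X.IdealSheafData where
  ideal V := subIdealOn K M V.1
  map_ideal_basicOpen V f := subIdealOn_map K hM V f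

lemma subIdeal_le (K : X.IdealSheafData) {M : Sub (ClSub.idealMod K)} (hM : GenOn M ⊤) : subIdeal K hM ≤ K := by
  intro V a ha
  obtain ⟨σ, -, rfl⟩ := ha
  exact ConormalSection.idealSect_mem K V σ

lemma subIdeal_ft (K : X.IdealSheafData) {M : Sub (ClSub.idealMod K)} (hM : GenOn M ⊤) :
    BlowUp.IsFiniteTypeIdeal (subIdeal K hM) := by
  haveI := ConormalSection.isQuasicoherent_idealMod K
  refine BlowUpLib.fg_of_local fun x => ?_
  obtain ⟨W, hxW, hW, -, T, hT⟩ := hM x (Opens.mem_top x)
  refine ⟨⟨W, hW⟩, hxW, ?_⟩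
  have hfg : subIdealOn K M W = Ideal.span (OmegaSh.idealSect K W '' (T : Set Γ(ClSub.idealMod K, W))) := by
    refine le_antisymm ?_ (Ideal.span_le.mpr ?_)
    · rintro a ⟨σ, hσ, rfl⟩
      obtain ⟨k, hk⟩ := exists_pow_smul_mem_span hW 1 (T : Set Γ(ClSub.idealMod K, W)) σ
        (fun y hy _ => hT y hy ▸ hσ y hy)
      rw [one_pow, one_smul] at hk
      clear hσ
      induction hk using Submodule.span_induction with
      | mem m hm => exact Ideal.subset_span ⟨m, hm, rfl⟩
      | zero => rw [map_zero]; exact zero_mem _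
      | add a b _ _ ha hb => rw [map_add]; exact add_mem ha hb
      | smul r a _ ha => rw [ConormalSection.idealSect_smul]; exact Ideal.mul_mem_left _ r ha
    · rintro a ⟨t, ht, rfl⟩
      exact ⟨t, fun y hy => hT y hy ▸ Submodule.subset_span ⟨t, ht, rfl⟩, rfl⟩
  show (subIdealOn K M W).FG
  rw [hfg]
  exact Submodule.fg_span (T.finite_toSet.image _)

lemma ideal_eq_top_of_disjoint (K : X.IdealSheafData) (U : X.affineOpens)
    (h : Disjoint (U.1 : Set X) (K.support : Set X)) : K.ideal U = ⊤ := by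
  have hz : X.zeroLocus (U := U.1) (K.ideal U) ∩ U.1 = ∅ := by
    rw [← K.coe_support_inter U, Set.inter_comm]
    exact Set.disjoint_iff_inter_eq_empty.mp h
  have := (U.2.fromSpec_image_zeroLocus (K.ideal U : Set Γ(X, U.1))).trans hz
  rw [Set.image_eq_empty] at this
  exact PrimeSpectrum.zeroLocus_empty_iff_eq_top.mp this

/-- Inside any ideal sheaf, a finite type one which is still trivial on a given quasi-compact open. -/
theorem exists_ft_le [CompactSpace X] [QuasiSeparatedSpace X] (K : X.IdealSheafData) (W : X.Opens)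
    (hW : IsCompact (W : Set X)) (hWK : Disjoint (W : Set X) (K.support : Set X)) :
    ∃ I : X.IdealSheafData, BlowUp.IsFiniteTypeIdeal I ∧ I ≤ K ∧ Disjoint (W : Set X) (I.support : Set X) := by
  classical
  haveI := ConormalSection.isQuasicoherent_idealMod K
  obtain ⟨κ, hκ, U, hU, hle, hsup⟩ := Groth.Agent.QCohLib.exists_finite_affine_cover (X := X) (U := W) hW
  have h1 : ∀ i, ∃ s : Γ(ClSub.idealMod K, U i), OmegaSh.idealSect K (U i) s = 1 := by
    intro i
    refine ConormalSection.exists_idealSect_eq K ⟨U i, hU i⟩ 1 ?_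
    rw [ideal_eq_top_of_disjoint K ⟨U i, hU i⟩ (hWK.mono_left (hle i))]
    trivial
  choose s hs using h1
  choose M hM hsM using fun i => exists_gen_of_section_qcqs (F := ClSub.idealMod K) (hU i) (s i)
  have hS : GenOn (fun y => Finset.univ.sup fun i => M i y) ⊤ := genOn_finset_sup Finset.univ M fun i _ => hM i
  refine ⟨subIdeal K hS, subIdeal_ft K hS, subIdeal_le K hS, Set.disjoint_left.mpr fun x hxW hx => ?_⟩
  obtain ⟨i, hi⟩ := Opens.mem_iSup.mp (hsup hxW)
  rw [SetLike.mem_coe, Scheme.IdealSheafData.mem_support_iff_of_mem (U := ⟨U i, hU i⟩) hi,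
    Scheme.mem_zeroLocus_iff] at hx
  refine hx 1 ⟨s i, fun y hy => ?_, hs i⟩ (by rw [Scheme.basicOpen_of_isUnit X isUnit_one]; exact hi)
  exact (Finset.le_sup (f := fun i => M i y) (Finset.mem_univ i)) (hsM i y hy)

/-- A quasi-compact open is the complement of the support of a finite type ideal. -/
theorem exists_ft_ideal [CompactSpace X] [QuasiSeparatedSpace X] (W : X.Opens) (hW : IsCompact (W : Set X)) :
    ∃ I : X.IdealSheafData, BlowUp.IsFiniteTypeIdeal I ∧ (I.support : Set X) = (W : Set X)ᶜ := by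
  let K := Scheme.IdealSheafData.vanishingIdeal (W.compl : Closeds X)
  have hK : (K.support : Set X) = (W : Set X)ᶜ := by
    rw [Scheme.IdealSheafData.coe_support_vanishingIdeal]
    rfl
  obtain ⟨I, hI, hle, hd⟩ := exists_ft_le K W hW (by rw [hK]; exact disjoint_compl_right)
  exact ⟨I, hI, subset_antisymm hd.subset_compl_left (hK ▸ Scheme.IdealSheafData.support_antitone hle)⟩

end Groth.Agent.AdmBlowUp
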