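import Groth.Agent.AdmBlowUp.AmpleFam
import Groth.Agent.InvExtend.AffineCompl

/-!
# Ample families on locally factorial Noetherian schemes
-/

set_option autoImplicit false
set_option synthInstance.maxHeartbeats 400000
universe u
open CategoryTheory CategoryTheory.Limits AlgebraicGeometry Opposite TopologicalSpace Topology

namespace Groth.Agent.AdmBlowUp

open InvBasic ProjUniv InvPow InvExtend

variable {X : Scheme.{u}}

/-- Associated primes of the quotient by a radical ideal are minimal over it. -/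
lemma eq_of_isAssociatedPrime_of_isRadical {A : Type u} [CommRing A] [IsNoetherianRing A] {I q q' : Ideal A}
    (hI : I.IsRadical) (hq : IsAssociatedPrime q (A ⧸ I)) (hq' : q'.IsPrime) (hle : q' ≤ q) (hIq' : I ≤ q') :
    q' = q := by
  obtain ⟨-, x, hx⟩ := isAssociatedPrime_iff.mp hq
  obtain ⟨a, rfl⟩ := Ideal.Quotient.mk_surjective x
  have hmem : ∀ b, b ∈ q ↔ b * a ∈ I := fun b => by
    rw [hx, Submodule.mem_colon_singleton, Submodule.mem_bot, ← Ideal.Quotient.eq_zero_iff_mem]
    rfl
  have haI : a ∉ I := fun h => hq.isPrime.ne_top <| (Ideal.eq_top_iff_one _).mpr <|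
    (hmem 1).mpr (by rwa [one_mul])
  obtain ⟨P, hP, haP⟩ : ∃ P ∈ I.minimalPrimes, a ∉ P := by
    by_contra h
    push Not at h
    refine haI ?_
    rw [← hI.radical, ← Ideal.sInf_minimalPrimes]
    exact Submodule.mem_sInf.mpr h
  have hqP : q ≤ P := fun b hb => (hP.1.1.mem_or_mem (hP.1.2 ((hmem b).mp hb))).resolve_right haP
  exact le_antisymm hle (hqP.trans (hP.2 ⟨hq', hIq'⟩ (hle.trans hqP)))

theorem hasAmpleFamily_of_factorial [IsNoetherian X]
    (hfact : ∀ x : X, IsDomain (X.presheaf.stalk x) ∧ UniqueFactorizationMonoid (X.presheaf.stalk x))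
    (hdiag : ∀ U V : X.Opens, IsAffineOpen U → IsAffineOpen V → IsAffineOpen (U ⊓ V)) :
    MoreMor.HasAmpleFamily X := by
  refine ⟨inferInstance, fun x => ?_⟩
  obtain ⟨W, hxW, hW, hWd⟩ := exists_dense_affine_nhd NoetherianSpace.finite_irreducibleComponents x
  let Zc : Closeds X := ⟨(W : Set X)ᶜ, W.2.isClosed_compl⟩
  let I := Scheme.IdealSheafData.vanishingIdeal Zc
  have hsupp : (I.support : Set X) = (W : Set X)ᶜ := by
    simp [I, Zc]
  have hIc : BlowUp.IsEffCartierIdeal I := by
    refine isEffCartierIdeal_of_associatedPrimes I (fun y _ => hfact y) fun V q hq hmem => ?_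
    haveI := (hfact (pt V.2 q)).1
    haveI := (hfact (pt V.2 q)).2
    haveI : IsNoetherianRing Γ(X, V.1) := IsLocallyNoetherian.component_noetherian (X := X) V
    have hnW : pt V.2 q ∉ W := fun h => by
      have : pt V.2 q ∈ (I.support : Set X) := hmem
      rw [hsupp] at this
      exact this h
    refine ringKrullDim_stalk_eq_one_of_affine_compl hWd V.2 (hdiag _ _ V.2 hW) (pt_mem V.2 q) hnW ?_
    intro y hy hyW
    have hyV : y ∈ V.1 := hy.mem_open V.1.2 (pt_mem V.2 q)
    have hle := (InvExtend.specializes_iff V.2 (pt_mem V.2 q) hyV).mp hy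
    rw [primeIdealOf_pt] at hle
    have hrad : (I.ideal V).IsRadical := by
      simp only [I, Scheme.IdealSheafData.vanishingIdeal_ideal]
      exact PrimeSpectrum.isRadical_vanishingIdeal _
    have hIy : I.ideal V ≤ (V.2.primeIdealOf ⟨y, hyV⟩).asIdeal := fun f hf => by
      by_contra hfy
      have : y ∈ (I.support : Set X) := by rw [hsupp]; exact hyW
      rw [SetLike.mem_coe, Scheme.IdealSheafData.mem_support_iff_of_mem hyV, Scheme.mem_zeroLocus_iff] at this
      exact this f hf ((InvExtend.mem_basicOpen_iff V.2 hyV f).mpr hfy)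
    have e := eq_of_isAssociatedPrime_of_isRadical hrad hq (V.2.primeIdealOf ⟨y, hyV⟩).isPrime hle hIy
    have e' : V.2.primeIdealOf ⟨y, hyV⟩ = q := PrimeSpectrum.ext e
    exact (V.2.fromSpec_primeIdealOf ⟨y, hyV⟩).symm.trans (congrArg _ e')
  obtain ⟨hL, t, ht⟩ := exists_section_dual I hIc
  generalize RefHull.dual (ClSub.idealMod I) = L at hL t ht
  have hD : genOpen hL t = W := Opens.ext (by rw [ht, hsupp, compl_compl])
  obtain ⟨i1⟩ := nonempty_pow_one_iso hL
  have ht1 : genOpen (isInvertible_tensorPow hL 1) (i1.inv.app ⊤ t) = W :=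
    (gen_iff_of_iso hL (isInvertible_tensorPow hL 1) i1.symm t).trans hD
  refine ⟨L, 1, ProjTwist.globalHom _ (i1.inv.app ⊤ t), hL, le_rfl, ?_⟩
  rw [genLocus_globalHom (isInvertible_tensorPow hL 1), ht1]
  exact ⟨hxW, hW⟩

end Groth.Agent.AdmBlowUp
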