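import Groth.Agent.AdmBlowUp.Extra
import Mathlib.RingTheory.Nakayama
import Mathlib.AlgebraicGeometry.Morphisms.Proper

/-!
Separation of several closed subsets in a product by admissible blow-ups.
-/

set_option autoImplicit false
universe u
open CategoryTheory Limits AlgebraicGeometry TopologicalSpace Topology

namespace Groth.Agent.AdmBlowUp

variable {S : Scheme.{u}}

lemma isProper_base : ∀ {m : ℕ} {Xb : Fin m → Scheme.{u}} (gb : ∀ i, Xb i ⟶ S), (∀ i, IsProper (gb i)) →
    IsProper (WidePullback.base gb)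
  | 0, Xb, gb, _ => by
    have : IsIso (WidePullback.base gb) := ⟨WidePullback.lift (𝟙 S) (fun i => Fin.elim0 i) (fun i => Fin.elim0 i),
      WidePullback.hom_ext _ _ _ (fun i => Fin.elim0 i)
        ((Category.assoc _ _ _).trans ((congrArg (WidePullback.base gb ≫ ·) (WidePullback.lift_base _ _ _ _)).trans
          ((Category.comp_id _).trans (Category.id_comp _).symm))),
      WidePullback.lift_base _ _ _ _⟩
    infer_instance
  | m + 1, Xb, gb, hgb => by
    let gb' : ∀ i : Fin m, Xb i.castSucc ⟶ S := fun i => gb i.castSucc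
    have := isProper_base gb' fun i => hgb i.castSucc
    have := hgb (Fin.last m)
    let Q := pullback (WidePullback.base gb') (gb (Fin.last m))
    let r : widePullback S Xb gb ⟶ widePullback S (fun i : Fin m => Xb i.castSucc) gb' :=
      WidePullback.lift (WidePullback.base gb) (fun i => WidePullback.π gb i.castSucc)
        (fun i => WidePullback.π_arrow gb i.castSucc)
    let toQ : widePullback S Xb gb ⟶ Q :=
      pullback.lift r (WidePullback.π gb (Fin.last m))
        ((WidePullback.lift_base _ _ _ _).trans (WidePullback.π_arrow gb (Fin.last m)).symm)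
    let fs : ∀ i, Q ⟶ Xb i :=
      Fin.lastCases (motive := fun i => Q ⟶ Xb i) (pullback.snd _ _)
          (fun i => pullback.fst _ _ ≫ WidePullback.π gb' i)
    have hlast : fs (Fin.last m) = pullback.snd _ _ := Fin.lastCases_last
    have hcast : ∀ i : Fin m, fs i.castSucc = pullback.fst _ _ ≫ WidePullback.π gb' i := fun i => Fin.lastCases_castSucc i
    let ofQ : Q ⟶ widePullback S Xb gb :=
      WidePullback.lift (pullback.fst _ _ ≫ WidePullback.base gb') fs
        (fun i => by
          induction i using Fin.lastCases with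
          | last => rw [hlast]; exact pullback.condition.symm
          | cast i => rw [hcast, Category.assoc]; exact congrArg (_ ≫ ·) (WidePullback.π_arrow gb' i))
    have hr : ∀ i : Fin m, r ≫ WidePullback.π gb' i = WidePullback.π gb i.castSucc := fun i => WidePullback.lift_π _ _ _ _ _
    have hr0 : r ≫ WidePullback.base gb' = WidePullback.base gb := WidePullback.lift_base _ _ _ _
    have hb : ofQ ≫ WidePullback.base gb = pullback.fst _ _ ≫ WidePullback.base gb' := WidePullback.lift_base _ _ _ _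
    have ho : ∀ i, ofQ ≫ WidePullback.π gb i = fs i := fun i => WidePullback.lift_π _ _ _ _ _
    have ht1 : toQ ≫ pullback.fst _ _ = r := pullback.lift_fst _ _ _
    have ht2 : toQ ≫ pullback.snd _ _ = WidePullback.π gb (Fin.last m) := pullback.lift_snd _ _ _
    have : IsIso toQ := by
      refine ⟨ofQ, WidePullback.hom_ext _ _ _ (fun i => ?_) ?_,
        pullback.hom_ext (WidePullback.hom_ext _ _ _ (fun i => ?_) ?_) ?_⟩
      · rw [Category.assoc, ho, Category.id_comp]
        induction i using Fin.lastCases with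
        | last => rw [hlast, ht2]
        | cast i => rw [hcast, ← Category.assoc, ht1, hr]
      · rw [Category.assoc, hb, ← Category.assoc, ht1, hr0, Category.id_comp]
      · rw [Category.assoc ofQ, ht1, Category.id_comp, Category.assoc, hr, ho, hcast]
      · rw [Category.assoc ofQ, ht1, Category.id_comp, Category.assoc, hr0, hb]
      · rw [Category.assoc, ht2, ho, hlast, Category.id_comp]
    have h : WidePullback.base gb = toQ ≫ pullback.fst _ _ ≫ WidePullback.base gb' := by
      rw [← Category.assoc, ht1, hr0]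
    rw [h]
    infer_instance

lemma ideal_comap_iSup {X Y : Scheme.{u}} {ι : Type*} (I : ι → Y.IdealSheafData) (f : X ⟶ Y) :
    (⨆ i, I i).comap f = ⨆ i, (I i).comap f := (Scheme.IdealSheafData.map_gc f).l_iSup

variable {X U : Scheme.{u}} {m : ℕ}

/-- If one coordinate of a point of the closure lies in the open, so does every coordinate. -/
lemma mem_range_of_mem_range {gX : X ⟶ S} {Xi Xb : Fin m → Scheme.{u}} {gb : ∀ i, Xb i ⟶ S} [∀ i, IsProper (gb i)]
    {o : ∀ i, Xi i ⟶ Xb i} [∀ i, IsOpenImmersion (o i)]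
    {q : ∀ i, Xi i ⟶ X} [∀ i, IsProper (q i)] (hq : ∀ i, q i ≫ gX = o i ≫ gb i)
    {jU : U ⟶ X} {v : ∀ i, U ⟶ Xi i}
    (hv : ∀ i, v i ≫ q i = jU) (w : ∀ i, (v i ≫ o i) ≫ gb i = jU ≫ gX)
    {z : ↥(widePullback S Xb gb)}
    (hz : z ∈ closure (Set.range (fun x => (WidePullback.lift (jU ≫ gX) (fun i => v i ≫ o i) w) x)))
    {i : Fin m} (hi : WidePullback.π gb i z ∈ (o i).opensRange) (j : Fin m) :
    WidePullback.π gb j z ∈ (o j).opensRange := by
  let A := (WidePullback.π gb i) ⁻¹ᵁ (o i).opensRange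
  let a : (A : Scheme.{u}) ⟶ Xi i := IsOpenImmersion.lift (o i) (A.ι ≫ WidePullback.π gb i) (by
    rintro _ ⟨w, rfl⟩
    exact w.2)
  have ha : a ≫ o i = A.ι ≫ WidePullback.π gb i := IsOpenImmersion.lift_fac _ _ _
  let g : Xi j ⟶ pullback (gb j) gX := pullback.lift (o j) (q j) (hq j).symm
  have : IsProper (g ≫ pullback.snd (gb j) gX) := by rw [pullback.lift_snd]; infer_instance
  have : IsProper g := IsProper.of_comp g (pullback.snd (gb j) gX)
  let h : (A : Scheme.{u}) ⟶ pullback (gb j) gX := pullback.lift (A.ι ≫ WidePullback.π gb j) (a ≫ q i) (by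
    rw [Category.assoc, Category.assoc, hq, reassoc_of% ha, WidePullback.π_arrow, WidePullback.π_arrow])
  let μ := WidePullback.lift (jU ≫ gX) (fun i => v i ≫ o i) w
  let uA : U ⟶ (A : Scheme.{u}) := IsOpenImmersion.lift A.ι μ (by
    rw [Scheme.Opens.range_ι]
    rintro _ ⟨x, rfl⟩
    show WidePullback.π gb i (μ x) ∈ (o i).opensRange
    rw [← Scheme.Hom.comp_apply, WidePullback.lift_π]
    exact ⟨v i x, (Scheme.Hom.comp_apply _ _ _).symm⟩)
  have huA : uA ≫ A.ι = μ := IsOpenImmersion.lift_fac _ _ _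
  have hua : uA ≫ a = v i := by
    rw [← cancel_mono (o i), Category.assoc, ha, reassoc_of% huA, WidePullback.lift_π]
  have h1 : h ≫ pullback.fst (gb j) gX = A.ι ≫ WidePullback.π gb j := pullback.lift_fst _ _ _
  have h2 : h ≫ pullback.snd (gb j) gX = a ≫ q i := pullback.lift_snd _ _ _
  have g1 : g ≫ pullback.fst (gb j) gX = o j := pullback.lift_fst _ _ _
  have g2 : g ≫ pullback.snd (gb j) gX = q j := pullback.lift_snd _ _ _
  have hu : uA ≫ h = v j ≫ g := by
    apply pullback.hom_ext
    · rw [Category.assoc, h1, Category.assoc, g1, reassoc_of% huA]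
      exact WidePullback.lift_π _ _ _ _ _
    · rw [Category.assoc, h2, Category.assoc, g2, reassoc_of% hua, hv, hv]
  have hz' : (⟨z, hi⟩ : (A : Scheme.{u})) ∈ closure (A.ι ⁻¹' Set.range (fun x => μ x)) := by
    rw [← A.ι.isOpenEmbedding.isOpenMap.preimage_closure_eq_closure_preimage A.ι.isOpenEmbedding.continuous]
    exact hz
  have hsub : A.ι ⁻¹' Set.range (fun x => μ x) ⊆ h ⁻¹' Set.range g := by
    rintro p ⟨x, hx⟩
    have hp : uA x = p := A.ι.isOpenEmbedding.injective (by rw [← Scheme.Hom.comp_apply, huA]; exact hx)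
    exact ⟨v j x, by rw [← hp, ← Scheme.Hom.comp_apply, ← hu, Scheme.Hom.comp_apply]⟩
  have hcl : IsClosed (h ⁻¹' Set.range g) := g.isClosedMap.isClosed_range.preimage h.continuous
  obtain ⟨x, hx⟩ := closure_minimal hsub hcl hz'
  refine ⟨x, ?_⟩
  show o j x = WidePullback.π gb j z
  have h1 := congrArg (fun p => pullback.fst (gb j) gX p) hx
  simp only [← Scheme.Hom.comp_apply, g, h, pullback.lift_fst] at h1
  exact h1.trans (Scheme.Hom.comp_apply _ _ _)

theorem exists_separating_multi [CompactSpace S] [QuasiSeparatedSpace S]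
    (gX : X ⟶ S) (Xi Xb : Fin m → Scheme.{u}) (gb : ∀ i, Xb i ⟶ S) [∀ i, IsProper (gb i)]
    (o : ∀ i, Xi i ⟶ Xb i) [∀ i, IsOpenImmersion (o i)] [∀ i, QuasiCompact (o i)]
    (q : ∀ i, Xi i ⟶ X) [∀ i, IsProper (q i)] (hq : ∀ i, q i ≫ gX = o i ≫ gb i)
    (jU : U ⟶ X) (v : ∀ i, U ⟶ Xi i)
    (hv : ∀ i, v i ≫ q i = jU) (w : ∀ i, (v i ≫ o i) ≫ gb i = jU ≫ gX)
    (Y : ∀ i, (Xi i).IdealSheafData) (hY : ∀ i, BlowUp.IsFiniteTypeIdeal (Y i))
    (hempty : ∀ z ∈ closure (Set.range (fun x => (WidePullback.lift (jU ≫ gX) (fun i => v i ≫ o i) w) x)),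
      ∃ i, (WidePullback.π gb i) z ∉ (fun x => o i x) '' ((Y i).support : Set (Xi i))) :
    ∃ (𝓔 : ∀ i, (Xb i).IdealSheafData) (Xb' : Fin m → Scheme.{u}) (c : ∀ i, Xb' i ⟶ Xb i)
      (v' : ∀ i, U ⟶ Xb' i) (w' : ∀ i, v' i ≫ c i ≫ gb i = jU ≫ gX),
      (∀ i, BlowUp.IsBlowUp (c i) (𝓔 i) ∧ BlowUp.IsAdmissibleFor (o i).opensRange (𝓔 i) ∧
        v' i ≫ c i = v i ≫ o i) ∧
      ∀ z ∈ closure (Set.range (fun x => (WidePullback.lift (jU ≫ gX) (fun i => v' i) w') x)),
        ∃ i, (WidePullback.π (fun i => c i ≫ gb i) i) z ∉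
          closure ((fun y => c i y) ⁻¹' ((fun x => o i x) '' ((Y i).support : Set (Xi i)))) := by
  have hcpt : ∀ i, CompactSpace (Xb i) := fun i => QuasiCompact.compactSpace_of_compactSpace (gb i)
  have hqs : ∀ i, QuasiSeparatedSpace (Xb i) := fun i => quasiSeparatedSpace_of_quasiSeparated (gb i)
  have hcptX : ∀ i, CompactSpace (Xi i) := fun i => haveI := hcpt i; QuasiCompact.compactSpace_of_compactSpace (o i)
  have hqsX : ∀ i, QuasiSeparatedSpace (Xi i) := fun i => haveI := hqs i; quasiSeparatedSpace_of_quasiSeparated (o i)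
  have hI : ∀ i, ∃ I : (Xb i).IdealSheafData, BlowUp.IsFiniteTypeIdeal I ∧
      ∀ x, o i x ∈ I.support ↔ x ∈ (Y i).support := by
    intro i
    have := hcpt i; have := hqs i; have := hcptX i; have := hqsX i
    have hc : IsCompact ((fun x => o i x) '' ((Y i).support : Set (Xi i))ᶜ) :=
      (isCompact_compl_support (hY i)).image (o i).continuous
    obtain ⟨I, hI, hs⟩ := exists_ft_ideal (⟨_, (o i).isOpenEmbedding.isOpenMap _ (Y i).support.isClosed.isOpen_compl⟩) hc
    refine ⟨I, hI, fun x => ?_⟩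
    rw [← SetLike.mem_coe, hs]
    show o i x ∉ (fun x => o i x) '' _ ↔ _
    rw [(o i).isOpenEmbedding.injective.mem_set_image, Set.notMem_compl_iff]
    rfl
  choose I hIft hIs using hI
  let μ := WidePullback.lift (jU ≫ gX) (fun i => v i ≫ o i) w
  let K : (widePullback S Xb gb).IdealSheafData :=
    Scheme.IdealSheafData.vanishingIdeal ⟨closure (Set.range (fun x => μ x)), isClosed_closure⟩
  let B := (⨆ j, (I j).comap (WidePullback.π gb j)) ⊔ K
  have := isProper_base gb fun _ => inferInstance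
  have hqc : ∀ i, QuasiCompact (WidePullback.π gb i) := fun i => by
    have : QuasiCompact (WidePullback.π gb i ≫ gb i) := by rw [WidePullback.π_arrow]; infer_instance
    exact QuasiCompact.of_comp (WidePullback.π gb i) (gb i)
  have hF : ∀ i, ∃ F : (Xb i).IdealSheafData, BlowUp.IsFiniteTypeIdeal F ∧ F.comap (WidePullback.π gb i) ≤ B ∧
      Disjoint ((o i).opensRange : Set (Xb i)) (F.support : Set (Xb i)) := by
    intro i
    have := hcpt i; have := hqs i; have := hqc i; have := hcptX i
    have hd : Disjoint ((o i).opensRange : Set (Xb i)) ((B.map (WidePullback.π gb i)).support : Set (Xb i)) := by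
      refine Set.disjoint_left.mpr fun x hxO hx => ?_
      rw [Scheme.IdealSheafData.support_map, Closeds.coe_closure] at hx
      obtain ⟨_, hyO, b, hb, rfl⟩ := mem_closure_iff.mp hx _ (o i).opensRange.isOpen hxO
      have hbK : b ∈ (K.support : Set _) := Scheme.IdealSheafData.support_antitone le_sup_right hb
      rw [Scheme.IdealSheafData.coe_support_vanishingIdeal] at hbK
      obtain ⟨j, hj⟩ := hempty b hbK
      obtain ⟨y, hy⟩ := mem_range_of_mem_range hq hv w hbK hyO j
      have hbI : b ∈ ((I j).comap (WidePullback.π gb j)).support :=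
        Scheme.IdealSheafData.support_antitone ((le_iSup (fun j => (I j).comap (WidePullback.π gb j)) j).trans le_sup_left) hb
      rw [Scheme.IdealSheafData.support_comap] at hbI
      exact hj ⟨y, (hIs j y).mp (show o j y ∈ (I j).support from hy ▸ hbI), hy⟩
    obtain ⟨F, hF, hle, hdF⟩ := exists_ft_le _ (o i).opensRange
      (by rw [Scheme.Hom.coe_opensRange]; exact isCompact_range (o i).continuous) hd
    exact ⟨F, hF, (Scheme.IdealSheafData.comap_mono _ hle).trans (Scheme.IdealSheafData.comap_map_le _ _), hdF⟩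
  choose F hFft hFle hFd using hF
  let E := fun i => I i ⊔ F i
  have hEd : ∀ i, ∀ x ∈ (o i).opensRange, x ∉ (E i).support := fun i x hx h =>
    Set.disjoint_left.mp (hFd i) hx (Scheme.IdealSheafData.support_antitone le_sup_right h)
  choose Xb' c hc using fun i => BlowUpLib.exists_isBlowUp (E i)
  have hlift : ∀ i, ∃ v' : U ⟶ Xb' i, v' ≫ c i = v i ≫ o i := fun i =>
    ((hc i).2 U (v i ≫ o i) (by
      rw [BlowUpLib.comap_eq_top_of_range fun x => hEd i _ ⟨v i x, (Scheme.Hom.comp_apply _ _ _).symm⟩]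
      exact BlowUpLib.ec_top)).exists
  choose v' hv' using hlift
  have w' : ∀ i, v' i ≫ c i ≫ gb i = jU ≫ gX := fun i => by rw [reassoc_of% (hv' i), ← w i, Category.assoc]
  refine ⟨E, Xb', c, v', w', fun i => ⟨hc i, ⟨fun V => ?_, Set.disjoint_right.mpr (hEd i)⟩, hv' i⟩, fun z hz => ?_⟩
  · rw [Scheme.IdealSheafData.ideal_sup, Pi.sup_apply]
    exact Submodule.FG.sup (hIft i V) (hFft i V)
  by_contra hne
  push Not at hne
  let gb' := fun i => c i ≫ gb i
  let μ' := WidePullback.lift (jU ≫ gX) (fun i => v' i) w'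
  let ν : widePullback S Xb' gb' ⟶ widePullback S Xb gb :=
    WidePullback.lift (WidePullback.base gb') (fun i => WidePullback.π gb' i ≫ c i) (fun i => by simp [WidePullback.lift_π, WidePullback.lift_π_assoc, WidePullback.lift_base, WidePullback.lift_base_assoc, gb'])
  have hν : ∀ i, ν ≫ WidePullback.π gb i = WidePullback.π gb' i ≫ c i := fun i => WidePullback.lift_π _ _ _ _ _
  have hμν : μ' ≫ ν = μ := WidePullback.hom_ext _ _ _
    (fun i => by simp [WidePullback.lift_π, WidePullback.lift_π_assoc, WidePullback.lift_base, WidePullback.lift_base_assoc, μ', ν, μ, gb', hv']) (by simp [WidePullback.lift_π, WidePullback.lift_π_assoc, WidePullback.lift_base, WidePullback.lift_base_assoc, μ', ν, μ, gb'])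
  choose V hzV d hd0 hD using fun i => (hc i).1 (WidePullback.π gb' i z)
  obtain ⟨O, hO, hzO, hOle⟩ := exists_isAffineOpen_mem_and_subset (x := z)
    (U := ⟨⋂ i, (fun p => WidePullback.π gb' i p) ⁻¹' ((V i).1 : Set (Xb' i)),
      isOpen_iInter_of_finite fun i => (V i).1.isOpen.preimage (WidePullback.π gb' i).continuous⟩)
    (Set.mem_iInter.mpr hzV)
  have hOV : ∀ i, O ≤ WidePullback.π gb' i ⁻¹ᵁ (V i).1 := fun i p hp => Set.mem_iInter.mp (hOle hp) i
  let φ := fun i => ((WidePullback.π gb' i).appLE (V i).1 O (hOV i)).hom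
  let 𝔭 := (hO.primeIdealOf ⟨z, hzO⟩).asIdeal
  have hmem𝔭 : ∀ t, z ∉ (widePullback S Xb' gb').basicOpen t → t ∈ 𝔭 := fun t ht => by
    by_contra hn
    exact ht ((Groth.Agent.QCohLib.mem_basicOpen_iff_notMem_primeIdealOf hO hzO t).mpr hn)
  let D : Ideal Γ(widePullback S Xb' gb', O) := Ideal.span (Set.range fun i => φ i (d i))
  let Kk := (K.comap ν).ideal ⟨O, hO⟩
  have hID : ∀ j, (((I j).comap (WidePullback.π gb j)).comap ν).ideal ⟨O, hO⟩ ≤ 𝔭 * D := by
    intro j
    rw [← Scheme.IdealSheafData.comap_comp, hν j, Scheme.IdealSheafData.comap_comp,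
      IdealComap.ideal_comap ((I j).comap (c j)) (WidePullback.π gb' j) ⟨O, hO⟩ (V j) (hOV j), Ideal.map_le_iff_le_comap]
    intro a ha
    have hmem : a ∈ ((E j).comap (c j)).ideal (V j) :=
      Scheme.IdealSheafData.comap_mono _ le_sup_left (V j) ha
    obtain ⟨r, hr⟩ := Ideal.mem_span_singleton.mp (hD j ▸ hmem)
    have hzr : WidePullback.π gb' j z ∉ (Xb' j).basicOpen r := notMem_closure' ((I j).comap (c j)) ((E j).comap (c j))
      (V j) (d j) (hD j) (fun s hs => by
        rw [Scheme.IdealSheafData.support_comap]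
        obtain ⟨x, hx, e⟩ := hs
        show c j s ∈ (I j).support
        rw [← show o j x = c j s from e]
        exact (hIs j x).mpr hx)
      (Set.disjoint_left.mpr fun s hs hs' => by
        rw [Scheme.IdealSheafData.support_comap] at hs'
        obtain ⟨x, -, e⟩ := hs
        exact hEd j (c j s) ⟨x, e⟩ hs')
      (hne j) (hr ▸ ha)
    show φ j a ∈ 𝔭 * D
    rw [hr, map_mul, mul_comm (φ j (d j))]
    refine Ideal.mul_mem_mul (hmem𝔭 _ fun h => hzr ?_) (Ideal.subset_span (Set.mem_range_self j))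
    rw [Scheme.basicOpen_appLE] at h
    exact h.2
  have hdle : ∀ i, φ i (d i) ∈ 𝔭 * D ⊔ Kk := by
    intro i
    have h1 : φ i (d i) ∈ (((E i).comap (WidePullback.π gb i)).comap ν).ideal ⟨O, hO⟩ := by
      rw [← Scheme.IdealSheafData.comap_comp, hν i, Scheme.IdealSheafData.comap_comp,
        IdealComap.ideal_comap ((E i).comap (c i)) (WidePullback.π gb' i) ⟨O, hO⟩ (V i) (hOV i)]
      exact Ideal.mem_map_of_mem _ (hD i ▸ Ideal.mem_span_singleton_self (d i))
    have hle : (E i).comap (WidePullback.π gb i) ≤ B := by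
      rw [Scheme.IdealSheafData.comap_sup]
      exact sup_le ((le_iSup (fun j => (I j).comap (WidePullback.π gb j)) i).trans le_sup_left) (hFle i)
    have h2 := Scheme.IdealSheafData.comap_mono ν hle ⟨O, hO⟩ h1
    simp only [B] at h2
    rw [Scheme.IdealSheafData.comap_sup, ideal_comap_iSup, Scheme.IdealSheafData.ideal_sup, Pi.sup_apply,
      Scheme.IdealSheafData.ideal_iSup, iSup_apply] at h2
    exact sup_le_sup_right (iSup_le hID) _ h2
  let N : Submodule Γ(widePullback S Xb' gb', O) (Γ(widePullback S Xb' gb', O) ⧸ Kk) := Submodule.map (Submodule.mkQ Kk) D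
  have hN : N ≤ 𝔭 • N := by
    have hDle : D ≤ 𝔭 * D ⊔ Kk := Ideal.span_le.mpr (by rintro _ ⟨i, rfl⟩; exact hdle i)
    refine (Submodule.map_mono (f := Submodule.mkQ Kk) hDle).trans ?_
    rw [Submodule.map_sup, show 𝔭 * D = 𝔭 • D from rfl, Submodule.map_smul'',
      show Submodule.map (Submodule.mkQ Kk) Kk = ⊥ from Submodule.mkQ_map_self Kk, sup_bot_eq]
  obtain ⟨r, hr1, hr⟩ := Submodule.exists_sub_one_mem_and_smul_eq_zero_of_fg_of_le_smul 𝔭 N
    ((Submodule.fg_span (Set.finite_range _)).map _) hN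
  have hzr : z ∈ (widePullback S Xb' gb').basicOpen r :=
    (Groth.Agent.QCohLib.mem_basicOpen_iff_notMem_primeIdealOf hO hzO r).mpr fun h =>
      (hO.primeIdealOf ⟨z, hzO⟩).isPrime.ne_top ((Ideal.eq_top_iff_one _).mpr (by simpa using 𝔭.sub_mem h hr1))
  obtain ⟨_, hwr, x, rfl⟩ := mem_closure_iff.mp hz _ ((widePullback S Xb' gb').basicOpen r).isOpen hzr
  have hwO : μ' x ∈ O := (widePullback S Xb' gb').basicOpen_le r hwr
  obtain ⟨i, -⟩ := hempty (μ x) (subset_closure ⟨x, rfl⟩)
  have hrd : r * φ i (d i) ∈ Kk := by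
    have := hr _ (Submodule.mem_map_of_mem (f := Submodule.mkQ Kk) (Ideal.subset_span ⟨i, rfl⟩))
    rw [← map_smul, Submodule.mkQ_apply, Submodule.Quotient.mk_eq_zero] at this
    exact this
  have hK : μ' x ∈ (K.comap ν).support := by
    rw [Scheme.IdealSheafData.support_comap]
    show ν (μ' x) ∈ K.support
    rw [← Scheme.Hom.comp_apply, hμν, ← SetLike.mem_coe, Scheme.IdealSheafData.coe_support_vanishingIdeal]
    exact subset_closure ⟨x, rfl⟩
  rw [Scheme.IdealSheafData.mem_support_iff_of_mem (U := ⟨O, hO⟩) hwO, Scheme.mem_zeroLocus_iff] at hK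
  refine hK _ hrd ?_
  rw [Scheme.basicOpen_mul, Scheme.basicOpen_appLE]
  refine ⟨hwr, hwO, ?_⟩
  by_contra hd
  have hwV := hOV i hwO
  have hmem : WidePullback.π gb' i (μ' x) ∈ ((E i).comap (c i)).support := by
    rw [Scheme.IdealSheafData.mem_support_iff_of_mem (U := V i) hwV, Scheme.mem_zeroLocus_iff, hD i]
    intro a ha hwa
    obtain ⟨t, rfl⟩ := Ideal.mem_span_singleton'.mp ha
    rw [(Xb' i).basicOpen_mul] at hwa
    exact hd hwa.2
  rw [Scheme.IdealSheafData.support_comap] at hmem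
  refine hEd i _ ⟨v i x, ?_⟩ hmem
  show o i (v i x) = c i (WidePullback.π gb' i (μ' x))
  have hμ' : μ' ≫ WidePullback.π gb' i = v' i := WidePullback.lift_π _ _ _ _ _
  rw [← Scheme.Hom.comp_apply, ← hv' i, Scheme.Hom.comp_apply, ← Scheme.Hom.comp_apply μ', hμ']

end Groth.Agent.AdmBlowUp
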