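import Groth.Agent.AdmBlowUp.FTIdeal
import Mathlib.Topology.Constructible

/-!
Separating closed subsets by an admissible blow-up.
-/

set_option autoImplicit false
universe u
open CategoryTheory Limits AlgebraicGeometry TopologicalSpace Topology

namespace Groth.Agent.AdmBlowUp

open Topology in
lemma isCompact_of_constructible {Y : Type u} [TopologicalSpace Y] [CompactSpace Y] {s : Set Y}
    (hs : IsConstructible s) : IsCompact s := by
  refine BooleanSubalgebra.closure_sdiff_sup_induction (s := {U : Set Y | IsOpen U ∧ IsRetrocompact U})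
    (p := fun g _ => IsCompact g) ⟨?_, ?_⟩ ⟨isOpen_empty, .empty⟩ ⟨isOpen_univ, .univ⟩ ?_ ?_ s hs
  · exact fun a ha b hb => ⟨ha.1.union hb.1, ha.2.union hb.2⟩
  · intro a ha b hb
    refine ⟨ha.1.inter hb.1, fun V hVc hVo => ?_⟩
    show IsCompact (a ∩ b ∩ V)
    rw [Set.inter_assoc]
    exact ha.2 (hb.2 hVc hVo) (hb.1.inter hVo)
  · intro a ha b hb
    have : IsCompact a := by simpa using ha.2 isCompact_univ isOpen_univ
    exact this.diff hb.1
  · exact fun _ _ _ _ ha hb => ha.union hb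

variable {X : Scheme.{u}}

/-- A finite type ideal cutting out a constructible closed subset of a quasi-compact open. -/
theorem exists_ft_cutting [CompactSpace X] [QuasiSeparatedSpace X] (U : X.Opens) (hU : IsCompact (U : Set X))
    (T : Set U) (hT : IsClosed T) (cT : IsConstructible T) :
    ∃ I : X.IdealSheafData, BlowUp.IsFiniteTypeIdeal I ∧
      (I.support : Set X) ∩ (U : Set X) = Subtype.val '' T := by
  have : CompactSpace U := isCompact_iff_compactSpace.mp hU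
  let W : X.Opens := ⟨Subtype.val '' Tᶜ, U.2.isOpenMap_subtype_val _ hT.isOpen_compl⟩
  have hW : IsCompact (W : Set X) := (isCompact_of_constructible cT.compl).image continuous_subtype_val
  obtain ⟨I, hI, hs⟩ := exists_ft_ideal W hW
  refine ⟨I, hI, ?_⟩
  rw [hs]
  ext x
  refine ⟨fun ⟨hxW, hxU⟩ => ?_, fun ⟨⟨z, hzU⟩, hz, e⟩ => ?_⟩
  · by_contra h
    exact hxW ⟨⟨x, hxU⟩, fun hT' => h ⟨⟨x, hxU⟩, hT', rfl⟩, rfl⟩
  · subst e
    refine ⟨fun ⟨⟨z', hz'U⟩, hz', e'⟩ => hz' ?_, hzU⟩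
    obtain rfl : z' = z := e'
    exact hz

/-- On a scheme, ideals generating an invertible ideal have separated residual parts. -/
lemma notMem_closure {X' : Scheme.{u}} {J D : X'.IdealSheafData} {S : Set X'} (V : X'.affineOpens) {y : X'}
    (d c : Γ(X', V.1)) (hJ : d * c ∈ J.ideal V) (hc : y ∈ X'.basicOpen c) (hD : D.ideal V = Ideal.span {d})
    (hSJ : S ⊆ J.support) (hSD : Disjoint S D.support) : y ∉ closure S := by
  intro hy
  obtain ⟨p, hpc, hpS⟩ := mem_closure_iff.mp hy (X'.basicOpen c) (X'.basicOpen c).isOpen hc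
  have hpV : p ∈ V.1 := X'.basicOpen_le c hpc
  have hpJ : p ∈ J.support := hSJ hpS
  rw [Scheme.IdealSheafData.mem_support_iff_of_mem hpV, Scheme.mem_zeroLocus_iff] at hpJ
  have hpD : p ∈ D.support := by
    rw [Scheme.IdealSheafData.mem_support_iff_of_mem hpV, Scheme.mem_zeroLocus_iff, hD]
    intro a ha hpa
    obtain ⟨r, rfl⟩ := Ideal.mem_span_singleton'.mp ha
    rw [X'.basicOpen_mul] at hpa
    refine hpJ _ hJ ?_
    rw [X'.basicOpen_mul]
    exact ⟨hpa.2, hpc⟩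
  exact Set.disjoint_left.mp hSD hpS hpD

theorem exists_separating [CompactSpace X] [QuasiSeparatedSpace X] (U : X.Opens) (hU : IsCompact (U : Set X))
    (T₁ T₂ : Set U) (h₁ : IsClosed T₁) (h₂ : IsClosed T₂) (c₁ : IsConstructible T₁) (c₂ : IsConstructible T₂)
    (hd : Disjoint T₁ T₂) :
    ∃ (𝓘 : X.IdealSheafData) (X' : Scheme.{u}) (b : X' ⟶ X), BlowUp.IsBlowUp b 𝓘 ∧ BlowUp.IsAdmissibleFor U 𝓘 ∧
      Disjoint (closure (b.base ⁻¹' (Subtype.val '' T₁))) (closure (b.base ⁻¹' (Subtype.val '' T₂))) := by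
  obtain ⟨I₁, f₁, s₁⟩ := exists_ft_cutting U hU T₁ h₁ c₁
  obtain ⟨I₂, f₂, s₂⟩ := exists_ft_cutting U hU T₂ h₂ c₂
  obtain ⟨X', b, hb⟩ := Groth.Agent.BlowUpLib.exists_isBlowUp (I₁ ⊔ I₂)
  have hle : ((I₁ ⊔ I₂).support : Set X) ⊆ (I₁.support : Set X) ∩ I₂.support := fun x hx =>
    ⟨Scheme.IdealSheafData.support_antitone le_sup_left hx, Scheme.IdealSheafData.support_antitone le_sup_right hx⟩
  have hdisj : Disjoint ((I₁ ⊔ I₂).support : Set X) (U : Set X) := Set.disjoint_left.mpr fun x hx hxU => by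
    obtain ⟨z₁, hz₁, e₁⟩ := s₁.le ⟨(hle hx).1, hxU⟩
    obtain ⟨z₂, hz₂, e₂⟩ := s₂.le ⟨(hle hx).2, hxU⟩
    exact Set.disjoint_left.mp hd hz₁ (Subtype.ext (e₁.trans e₂.symm) ▸ hz₂)
  refine ⟨I₁ ⊔ I₂, X', b, hb, ⟨fun V => ?_, hdisj⟩, Set.disjoint_left.mpr fun y hy₁ hy₂ => ?_⟩
  · rw [Scheme.IdealSheafData.ideal_sup, Pi.sup_apply]
    exact Submodule.FG.sup (f₁ V) (f₂ V)
  obtain ⟨V, hyV, d, hd0, hD⟩ := hb.1 y
  have hS : ∀ (I : X.IdealSheafData) (T : Set U), (I.support : Set X) ∩ (U : Set X) = Subtype.val '' T →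
      b.base ⁻¹' (Subtype.val '' T) ⊆ (I.comap b).support ∧
        Disjoint (b.base ⁻¹' (Subtype.val '' T)) (((I₁ ⊔ I₂).comap b).support : Set X') := by
    intro I T hIT
    refine ⟨fun p hp => ?_, Set.disjoint_left.mpr fun p hp hp' => ?_⟩
    · rw [Scheme.IdealSheafData.support_comap]
      exact (hIT.ge hp).1
    · rw [Scheme.IdealSheafData.support_comap] at hp'
      exact Set.disjoint_left.mp hdisj hp' (hIT.ge hp).2
  have hsum : ((I₁ ⊔ I₂).comap b).ideal V = (I₁.comap b).ideal V ⊔ (I₂.comap b).ideal V := by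
    rw [Scheme.IdealSheafData.comap_sup, Scheme.IdealSheafData.ideal_sup, Pi.sup_apply]
  have hdmem : d ∈ (I₁.comap b).ideal V ⊔ (I₂.comap b).ideal V := by
    rw [← hsum, hD]; exact Ideal.mem_span_singleton_self d
  obtain ⟨a₁, ha₁, a₂, ha₂, hsd⟩ := Submodule.mem_sup.mp hdmem
  obtain ⟨r₁, hr₁⟩ := Ideal.mem_span_singleton.mp (hD.le (hsum.ge (Submodule.mem_sup_left ha₁)))
  obtain ⟨r₂, hr₂⟩ := Ideal.mem_span_singleton.mp (hD.le (hsum.ge (Submodule.mem_sup_right ha₂)))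
  have hone : r₁ + r₂ = 1 := by
    refine sub_eq_zero.mp ((mem_nonZeroDivisors_iff_right.mp hd0) _ ?_)
    rw [sub_mul, one_mul, sub_eq_zero, add_mul, mul_comm r₁, mul_comm r₂, ← hr₁, ← hr₂, hsd]
  have hy : y ∈ X'.basicOpen (r₁ + r₂) := by
    rw [hone, Scheme.basicOpen_of_isUnit X' isUnit_one]; exact hyV
  rcases (X'.basicOpen_add_le r₁ r₂) hy with h | h
  · exact notMem_closure V d r₁ (hr₁ ▸ ha₁) h hD (hS I₁ T₁ s₁).1 (hS I₁ T₁ s₁).2 hy₁
  · exact notMem_closure V d r₂ (hr₂ ▸ ha₂) h hD (hS I₂ T₂ s₂).1 (hS I₂ T₂ s₂).2 hy₂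

end Groth.Agent.AdmBlowUp
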